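import Cfsg.Agent.Lib.SporRecognition.CosetCert.Upper
import Cfsg.Agent.Lib.FusionExamples.LySub.LyB.Steps1
import Cfsg.Agent.Lib.FusionExamples.LySub.LyB.Steps2
import Cfsg.Agent.Lib.FusionExamples.LySub.LyB.Steps3

/-! Generated coset-enumeration certificate: LYP over <a, b>, 3125 cosets. -/

set_option autoImplicit false
set_option maxRecDepth 20000
set_option linter.all false
set_option Elab.async false

namespace CfsgLib.FusionExamples.LySub.LyB

open CfsgLib.SporRecognition.CosetCert

theorem defs_ok : allBelow 12 3188 (defStep inv fact) = true := by decide +kernel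

theorem final1_c0 : allPow 3125 (finalStep fact node item1 T1 25224 1 3125) 10 0 = true := by decide +kernel
theorem final1_c1 : allPow 3125 (finalStep fact node item1 T1 25224 1 3125) 10 1024 = true := by decide +kernel
theorem final1_c2 : allPow 3125 (finalStep fact node item1 T1 25224 1 3125) 10 2048 = true := by decide +kernel
theorem final1_c3 : allPow 3125 (finalStep fact node item1 T1 25224 1 3125) 10 3072 = true := by decide +kernel
theorem final1 : allBelow 12 3125 (finalStep fact node item1 T1 25224 1 3125) = true :=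
  allBelow_of_upto (hi := 4096)
    (Upto.trans (mid := 2048) (Upto.trans (mid := 1024) ((Upto.of_pow final1_c0 (Nat.le_refl _)) : Upto _ _ 0 (0 + 2 ^ 10))
    ((Upto.of_pow final1_c1 (Nat.le_refl _)) : Upto _ _ 1024 (1024 + 2 ^ 10)))
    (Upto.trans (mid := 3072) ((Upto.of_pow final1_c2 (Nat.le_refl _)) : Upto _ _ 2048 (2048 + 2 ^ 10))
    ((Upto.of_pow final1_c3 (Nat.le_refl _)) : Upto _ _ 3072 (3072 + 2 ^ 10))))
    (by decide) (by decide)

theorem final2_c0 : allPow 3125 (finalStep fact node item2 T2 25224 2 3125) 10 0 = true := by decide +kernel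
theorem final2_c1 : allPow 3125 (finalStep fact node item2 T2 25224 2 3125) 10 1024 = true := by decide +kernel
theorem final2_c2 : allPow 3125 (finalStep fact node item2 T2 25224 2 3125) 10 2048 = true := by decide +kernel
theorem final2_c3 : allPow 3125 (finalStep fact node item2 T2 25224 2 3125) 10 3072 = true := by decide +kernel
theorem final2 : allBelow 12 3125 (finalStep fact node item2 T2 25224 2 3125) = true :=
  allBelow_of_upto (hi := 4096)
    (Upto.trans (mid := 2048) (Upto.trans (mid := 1024) ((Upto.of_pow final2_c0 (Nat.le_refl _)) : Upto _ _ 0 (0 + 2 ^ 10))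
    ((Upto.of_pow final2_c1 (Nat.le_refl _)) : Upto _ _ 1024 (1024 + 2 ^ 10)))
    (Upto.trans (mid := 3072) ((Upto.of_pow final2_c2 (Nat.le_refl _)) : Upto _ _ 2048 (2048 + 2 ^ 10))
    ((Upto.of_pow final2_c3 (Nat.le_refl _)) : Upto _ _ 3072 (3072 + 2 ^ 10))))
    (by decide) (by decide)

theorem final3_c0 : allPow 3125 (finalStep fact node item3 T3 25224 3 3125) 10 0 = true := by decide +kernel
theorem final3_c1 : allPow 3125 (finalStep fact node item3 T3 25224 3 3125) 10 1024 = true := by decide +kernel
theorem final3_c2 : allPow 3125 (finalStep fact node item3 T3 25224 3 3125) 10 2048 = true := by decide +kernel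
theorem final3_c3 : allPow 3125 (finalStep fact node item3 T3 25224 3 3125) 10 3072 = true := by decide +kernel
theorem final3 : allBelow 12 3125 (finalStep fact node item3 T3 25224 3 3125) = true :=
  allBelow_of_upto (hi := 4096)
    (Upto.trans (mid := 2048) (Upto.trans (mid := 1024) ((Upto.of_pow final3_c0 (Nat.le_refl _)) : Upto _ _ 0 (0 + 2 ^ 10))
    ((Upto.of_pow final3_c1 (Nat.le_refl _)) : Upto _ _ 1024 (1024 + 2 ^ 10)))
    (Upto.trans (mid := 3072) ((Upto.of_pow final3_c2 (Nat.le_refl _)) : Upto _ _ 2048 (2048 + 2 ^ 10))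
    ((Upto.of_pow final3_c3 (Nat.le_refl _)) : Upto _ _ 3072 (3072 + 2 ^ 10))))
    (by decide) (by decide)

theorem final4_c0 : allPow 3125 (finalStep fact node item4 T4 25224 4 3125) 10 0 = true := by decide +kernel
theorem final4_c1 : allPow 3125 (finalStep fact node item4 T4 25224 4 3125) 10 1024 = true := by decide +kernel
theorem final4_c2 : allPow 3125 (finalStep fact node item4 T4 25224 4 3125) 10 2048 = true := by decide +kernel
theorem final4_c3 : allPow 3125 (finalStep fact node item4 T4 25224 4 3125) 10 3072 = true := by decide +kernel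
theorem final4 : allBelow 12 3125 (finalStep fact node item4 T4 25224 4 3125) = true :=
  allBelow_of_upto (hi := 4096)
    (Upto.trans (mid := 2048) (Upto.trans (mid := 1024) ((Upto.of_pow final4_c0 (Nat.le_refl _)) : Upto _ _ 0 (0 + 2 ^ 10))
    ((Upto.of_pow final4_c1 (Nat.le_refl _)) : Upto _ _ 1024 (1024 + 2 ^ 10)))
    (Upto.trans (mid := 3072) ((Upto.of_pow final4_c2 (Nat.le_refl _)) : Upto _ _ 2048 (2048 + 2 ^ 10))
    ((Upto.of_pow final4_c3 (Nat.le_refl _)) : Upto _ _ 3072 (3072 + 2 ^ 10))))
    (by decide) (by decide)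

theorem final5_c0 : allPow 3125 (finalStep fact node item5 T5 25224 5 3125) 10 0 = true := by decide +kernel
theorem final5_c1 : allPow 3125 (finalStep fact node item5 T5 25224 5 3125) 10 1024 = true := by decide +kernel
theorem final5_c2 : allPow 3125 (finalStep fact node item5 T5 25224 5 3125) 10 2048 = true := by decide +kernel
theorem final5_c3 : allPow 3125 (finalStep fact node item5 T5 25224 5 3125) 10 3072 = true := by decide +kernel
theorem final5 : allBelow 12 3125 (finalStep fact node item5 T5 25224 5 3125) = true :=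
  allBelow_of_upto (hi := 4096)
    (Upto.trans (mid := 2048) (Upto.trans (mid := 1024) ((Upto.of_pow final5_c0 (Nat.le_refl _)) : Upto _ _ 0 (0 + 2 ^ 10))
    ((Upto.of_pow final5_c1 (Nat.le_refl _)) : Upto _ _ 1024 (1024 + 2 ^ 10)))
    (Upto.trans (mid := 3072) ((Upto.of_pow final5_c2 (Nat.le_refl _)) : Upto _ _ 2048 (2048 + 2 ^ 10))
    ((Upto.of_pow final5_c3 (Nat.le_refl _)) : Upto _ _ 3072 (3072 + 2 ^ 10))))
    (by decide) (by decide)

theorem final6_c0 : allPow 3125 (finalStep fact node item6 T6 25224 6 3125) 10 0 = true := by decide +kernel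
theorem final6_c1 : allPow 3125 (finalStep fact node item6 T6 25224 6 3125) 10 1024 = true := by decide +kernel
theorem final6_c2 : allPow 3125 (finalStep fact node item6 T6 25224 6 3125) 10 2048 = true := by decide +kernel
theorem final6_c3 : allPow 3125 (finalStep fact node item6 T6 25224 6 3125) 10 3072 = true := by decide +kernel
theorem final6 : allBelow 12 3125 (finalStep fact node item6 T6 25224 6 3125) = true :=
  allBelow_of_upto (hi := 4096)
    (Upto.trans (mid := 2048) (Upto.trans (mid := 1024) ((Upto.of_pow final6_c0 (Nat.le_refl _)) : Upto _ _ 0 (0 + 2 ^ 10))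
    ((Upto.of_pow final6_c1 (Nat.le_refl _)) : Upto _ _ 1024 (1024 + 2 ^ 10)))
    (Upto.trans (mid := 3072) ((Upto.of_pow final6_c2 (Nat.le_refl _)) : Upto _ _ 2048 (2048 + 2 ^ 10))
    ((Upto.of_pow final6_c3 (Nat.le_refl _)) : Upto _ _ 3072 (3072 + 2 ^ 10))))
    (by decide) (by decide)

theorem final7_c0 : allPow 3125 (finalStep fact node item7 T7 25224 7 3125) 10 0 = true := by decide +kernel
theorem final7_c1 : allPow 3125 (finalStep fact node item7 T7 25224 7 3125) 10 1024 = true := by decide +kernel
theorem final7_c2 : allPow 3125 (finalStep fact node item7 T7 25224 7 3125) 10 2048 = true := by decide +kernel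
theorem final7_c3 : allPow 3125 (finalStep fact node item7 T7 25224 7 3125) 10 3072 = true := by decide +kernel
theorem final7 : allBelow 12 3125 (finalStep fact node item7 T7 25224 7 3125) = true :=
  allBelow_of_upto (hi := 4096)
    (Upto.trans (mid := 2048) (Upto.trans (mid := 1024) ((Upto.of_pow final7_c0 (Nat.le_refl _)) : Upto _ _ 0 (0 + 2 ^ 10))
    ((Upto.of_pow final7_c1 (Nat.le_refl _)) : Upto _ _ 1024 (1024 + 2 ^ 10)))
    (Upto.trans (mid := 3072) ((Upto.of_pow final7_c2 (Nat.le_refl _)) : Upto _ _ 2048 (2048 + 2 ^ 10))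
    ((Upto.of_pow final7_c3 (Nat.le_refl _)) : Upto _ _ 3072 (3072 + 2 ^ 10))))
    (by decide) (by decide)

theorem final8_c0 : allPow 3125 (finalStep fact node item8 T8 25224 8 3125) 10 0 = true := by decide +kernel
theorem final8_c1 : allPow 3125 (finalStep fact node item8 T8 25224 8 3125) 10 1024 = true := by decide +kernel
theorem final8_c2 : allPow 3125 (finalStep fact node item8 T8 25224 8 3125) 10 2048 = true := by decide +kernel
theorem final8_c3 : allPow 3125 (finalStep fact node item8 T8 25224 8 3125) 10 3072 = true := by decide +kernel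
theorem final8 : allBelow 12 3125 (finalStep fact node item8 T8 25224 8 3125) = true :=
  allBelow_of_upto (hi := 4096)
    (Upto.trans (mid := 2048) (Upto.trans (mid := 1024) ((Upto.of_pow final8_c0 (Nat.le_refl _)) : Upto _ _ 0 (0 + 2 ^ 10))
    ((Upto.of_pow final8_c1 (Nat.le_refl _)) : Upto _ _ 1024 (1024 + 2 ^ 10)))
    (Upto.trans (mid := 3072) ((Upto.of_pow final8_c2 (Nat.le_refl _)) : Upto _ _ 2048 (2048 + 2 ^ 10))
    ((Upto.of_pow final8_c3 (Nat.le_refl _)) : Upto _ _ 3072 (3072 + 2 ^ 10))))
    (by decide) (by decide)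

theorem final9_c0 : allPow 3125 (finalStep fact node item9 T9 25224 9 3125) 10 0 = true := by decide +kernel
theorem final9_c1 : allPow 3125 (finalStep fact node item9 T9 25224 9 3125) 10 1024 = true := by decide +kernel
theorem final9_c2 : allPow 3125 (finalStep fact node item9 T9 25224 9 3125) 10 2048 = true := by decide +kernel
theorem final9_c3 : allPow 3125 (finalStep fact node item9 T9 25224 9 3125) 10 3072 = true := by decide +kernel
theorem final9 : allBelow 12 3125 (finalStep fact node item9 T9 25224 9 3125) = true :=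
  allBelow_of_upto (hi := 4096)
    (Upto.trans (mid := 2048) (Upto.trans (mid := 1024) ((Upto.of_pow final9_c0 (Nat.le_refl _)) : Upto _ _ 0 (0 + 2 ^ 10))
    ((Upto.of_pow final9_c1 (Nat.le_refl _)) : Upto _ _ 1024 (1024 + 2 ^ 10)))
    (Upto.trans (mid := 3072) ((Upto.of_pow final9_c2 (Nat.le_refl _)) : Upto _ _ 2048 (2048 + 2 ^ 10))
    ((Upto.of_pow final9_c3 (Nat.le_refl _)) : Upto _ _ 3072 (3072 + 2 ^ 10))))
    (by decide) (by decide)

theorem final10_c0 : allPow 3125 (finalStep fact node item10 T10 25224 10 3125) 10 0 = true := by decide +kernel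
theorem final10_c1 : allPow 3125 (finalStep fact node item10 T10 25224 10 3125) 10 1024 = true := by decide +kernel
theorem final10_c2 : allPow 3125 (finalStep fact node item10 T10 25224 10 3125) 10 2048 = true := by decide +kernel
theorem final10_c3 : allPow 3125 (finalStep fact node item10 T10 25224 10 3125) 10 3072 = true := by decide +kernel
theorem final10 : allBelow 12 3125 (finalStep fact node item10 T10 25224 10 3125) = true :=
  allBelow_of_upto (hi := 4096)
    (Upto.trans (mid := 2048) (Upto.trans (mid := 1024) ((Upto.of_pow final10_c0 (Nat.le_refl _)) : Upto _ _ 0 (0 + 2 ^ 10))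
    ((Upto.of_pow final10_c1 (Nat.le_refl _)) : Upto _ _ 1024 (1024 + 2 ^ 10)))
    (Upto.trans (mid := 3072) ((Upto.of_pow final10_c2 (Nat.le_refl _)) : Upto _ _ 2048 (2048 + 2 ^ 10))
    ((Upto.of_pow final10_c3 (Nat.le_refl _)) : Upto _ _ 3072 (3072 + 2 ^ 10))))
    (by decide) (by decide)

theorem final11_c0 : allPow 3125 (finalStep fact node item11 T11 25224 11 3125) 10 0 = true := by decide +kernel
theorem final11_c1 : allPow 3125 (finalStep fact node item11 T11 25224 11 3125) 10 1024 = true := by decide +kernel
theorem final11_c2 : allPow 3125 (finalStep fact node item11 T11 25224 11 3125) 10 2048 = true := by decide +kernel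
theorem final11_c3 : allPow 3125 (finalStep fact node item11 T11 25224 11 3125) 10 3072 = true := by decide +kernel
theorem final11 : allBelow 12 3125 (finalStep fact node item11 T11 25224 11 3125) = true :=
  allBelow_of_upto (hi := 4096)
    (Upto.trans (mid := 2048) (Upto.trans (mid := 1024) ((Upto.of_pow final11_c0 (Nat.le_refl _)) : Upto _ _ 0 (0 + 2 ^ 10))
    ((Upto.of_pow final11_c1 (Nat.le_refl _)) : Upto _ _ 1024 (1024 + 2 ^ 10)))
    (Upto.trans (mid := 3072) ((Upto.of_pow final11_c2 (Nat.le_refl _)) : Upto _ _ 2048 (2048 + 2 ^ 10))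
    ((Upto.of_pow final11_c3 (Nat.le_refl _)) : Upto _ _ 3072 (3072 + 2 ^ 10))))
    (by decide) (by decide)

theorem final12_c0 : allPow 3125 (finalStep fact node item12 T12 25224 12 3125) 10 0 = true := by decide +kernel
theorem final12_c1 : allPow 3125 (finalStep fact node item12 T12 25224 12 3125) 10 1024 = true := by decide +kernel
theorem final12_c2 : allPow 3125 (finalStep fact node item12 T12 25224 12 3125) 10 2048 = true := by decide +kernel
theorem final12_c3 : allPow 3125 (finalStep fact node item12 T12 25224 12 3125) 10 3072 = true := by decide +kernel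
theorem final12 : allBelow 12 3125 (finalStep fact node item12 T12 25224 12 3125) = true :=
  allBelow_of_upto (hi := 4096)
    (Upto.trans (mid := 2048) (Upto.trans (mid := 1024) ((Upto.of_pow final12_c0 (Nat.le_refl _)) : Upto _ _ 0 (0 + 2 ^ 10))
    ((Upto.of_pow final12_c1 (Nat.le_refl _)) : Upto _ _ 1024 (1024 + 2 ^ 10)))
    (Upto.trans (mid := 3072) ((Upto.of_pow final12_c2 (Nat.le_refl _)) : Upto _ _ 2048 (2048 + 2 ^ 10))
    ((Upto.of_pow final12_c3 (Nat.le_refl _)) : Upto _ _ 3072 (3072 + 2 ^ 10))))
    (by decide) (by decide)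

theorem final13_c0 : allPow 3125 (finalStep fact node item13 T13 25224 13 3125) 10 0 = true := by decide +kernel
theorem final13_c1 : allPow 3125 (finalStep fact node item13 T13 25224 13 3125) 10 1024 = true := by decide +kernel
theorem final13_c2 : allPow 3125 (finalStep fact node item13 T13 25224 13 3125) 10 2048 = true := by decide +kernel
theorem final13_c3 : allPow 3125 (finalStep fact node item13 T13 25224 13 3125) 10 3072 = true := by decide +kernel
theorem final13 : allBelow 12 3125 (finalStep fact node item13 T13 25224 13 3125) = true :=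
  allBelow_of_upto (hi := 4096)
    (Upto.trans (mid := 2048) (Upto.trans (mid := 1024) ((Upto.of_pow final13_c0 (Nat.le_refl _)) : Upto _ _ 0 (0 + 2 ^ 10))
    ((Upto.of_pow final13_c1 (Nat.le_refl _)) : Upto _ _ 1024 (1024 + 2 ^ 10)))
    (Upto.trans (mid := 3072) ((Upto.of_pow final13_c2 (Nat.le_refl _)) : Upto _ _ 2048 (2048 + 2 ^ 10))
    ((Upto.of_pow final13_c3 (Nat.le_refl _)) : Upto _ _ 3072 (3072 + 2 ^ 10))))
    (by decide) (by decide)

theorem final14_c0 : allPow 3125 (finalStep fact node item14 T14 25224 14 3125) 10 0 = true := by decide +kernel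
theorem final14_c1 : allPow 3125 (finalStep fact node item14 T14 25224 14 3125) 10 1024 = true := by decide +kernel
theorem final14_c2 : allPow 3125 (finalStep fact node item14 T14 25224 14 3125) 10 2048 = true := by decide +kernel
theorem final14_c3 : allPow 3125 (finalStep fact node item14 T14 25224 14 3125) 10 3072 = true := by decide +kernel
theorem final14 : allBelow 12 3125 (finalStep fact node item14 T14 25224 14 3125) = true :=
  allBelow_of_upto (hi := 4096)
    (Upto.trans (mid := 2048) (Upto.trans (mid := 1024) ((Upto.of_pow final14_c0 (Nat.le_refl _)) : Upto _ _ 0 (0 + 2 ^ 10))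
    ((Upto.of_pow final14_c1 (Nat.le_refl _)) : Upto _ _ 1024 (1024 + 2 ^ 10)))
    (Upto.trans (mid := 3072) ((Upto.of_pow final14_c2 (Nat.le_refl _)) : Upto _ _ 2048 (2048 + 2 ^ 10))
    ((Upto.of_pow final14_c3 (Nat.le_refl _)) : Upto _ _ 3072 (3072 + 2 ^ 10))))
    (by decide) (by decide)

theorem final15_c0 : allPow 3125 (finalStep fact node item15 T15 25224 15 3125) 10 0 = true := by decide +kernel
theorem final15_c1 : allPow 3125 (finalStep fact node item15 T15 25224 15 3125) 10 1024 = true := by decide +kernel
theorem final15_c2 : allPow 3125 (finalStep fact node item15 T15 25224 15 3125) 10 2048 = true := by decide +kernel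
theorem final15_c3 : allPow 3125 (finalStep fact node item15 T15 25224 15 3125) 10 3072 = true := by decide +kernel
theorem final15 : allBelow 12 3125 (finalStep fact node item15 T15 25224 15 3125) = true :=
  allBelow_of_upto (hi := 4096)
    (Upto.trans (mid := 2048) (Upto.trans (mid := 1024) ((Upto.of_pow final15_c0 (Nat.le_refl _)) : Upto _ _ 0 (0 + 2 ^ 10))
    ((Upto.of_pow final15_c1 (Nat.le_refl _)) : Upto _ _ 1024 (1024 + 2 ^ 10)))
    (Upto.trans (mid := 3072) ((Upto.of_pow final15_c2 (Nat.le_refl _)) : Upto _ _ 2048 (2048 + 2 ^ 10))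
    ((Upto.of_pow final15_c3 (Nat.le_refl _)) : Upto _ _ 3072 (3072 + 2 ^ 10))))
    (by decide) (by decide)

theorem final16_c0 : allPow 3125 (finalStep fact node item16 T16 25224 16 3125) 10 0 = true := by decide +kernel
theorem final16_c1 : allPow 3125 (finalStep fact node item16 T16 25224 16 3125) 10 1024 = true := by decide +kernel
theorem final16_c2 : allPow 3125 (finalStep fact node item16 T16 25224 16 3125) 10 2048 = true := by decide +kernel
theorem final16_c3 : allPow 3125 (finalStep fact node item16 T16 25224 16 3125) 10 3072 = true := by decide +kernel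
theorem final16 : allBelow 12 3125 (finalStep fact node item16 T16 25224 16 3125) = true :=
  allBelow_of_upto (hi := 4096)
    (Upto.trans (mid := 2048) (Upto.trans (mid := 1024) ((Upto.of_pow final16_c0 (Nat.le_refl _)) : Upto _ _ 0 (0 + 2 ^ 10))
    ((Upto.of_pow final16_c1 (Nat.le_refl _)) : Upto _ _ 1024 (1024 + 2 ^ 10)))
    (Upto.trans (mid := 3072) ((Upto.of_pow final16_c2 (Nat.le_refl _)) : Upto _ _ 2048 (2048 + 2 ^ 10))
    ((Upto.of_pow final16_c3 (Nat.le_refl _)) : Upto _ _ 3072 (3072 + 2 ^ 10))))
    (by decide) (by decide)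

theorem relW_one : ∀ w ∈ relW, evalW (PresentedGroup.of (rels := (Cfsg.Spor.coxRelators CfsgLib.FusionExamples.LySub.edges ∪ {r | r ∈ CfsgLib.FusionExamples.LySub.extra}))) w = 1 := by
  have h : coxW CfsgLib.FusionExamples.LySub.edges pairs extraW = relW := by decide +kernel
  rw [← h]
  exact coxW_eq_one (by decide +kernel) rfl

noncomputable def tabU : Cfsg.Spor.Ly.Gen → Nat → Nat := fun a => tabs a true

theorem sect : ∃ s : Nat → PresentedGroup (Cfsg.Spor.coxRelators CfsgLib.FusionExamples.LySub.edges ∪ {r | r ∈ CfsgLib.FusionExamples.LySub.extra}) ⧸ wordSubgroup (Cfsg.Spor.coxRelators CfsgLib.FusionExamples.LySub.edges ∪ {r | r ∈ CfsgLib.FusionExamples.LySub.extra}) subW,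
    s 0 = ((1 : PresentedGroup (Cfsg.Spor.coxRelators CfsgLib.FusionExamples.LySub.edges ∪ {r | r ∈ CfsgLib.FusionExamples.LySub.extra})) : PresentedGroup (Cfsg.Spor.coxRelators CfsgLib.FusionExamples.LySub.edges ∪ {r | r ∈ CfsgLib.FusionExamples.LySub.extra}) ⧸ wordSubgroup (Cfsg.Spor.coxRelators CfsgLib.FusionExamples.LySub.edges ∪ {r | r ∈ CfsgLib.FusionExamples.LySub.extra}) subW) ∧
    ∀ a ∈ ([.a, .b, .c, .c1, .c2, .c3, .c4, .c5] : List Cfsg.Spor.Ly.Gen), ∀ u, u < 3125 → tabU a u < 3125 ∧
      (PresentedGroup.of (rels := (Cfsg.Spor.coxRelators CfsgLib.FusionExamples.LySub.edges ∪ {r | r ∈ CfsgLib.FusionExamples.LySub.extra})) a) • s u = s (tabU a u) :=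
  section_of_checks invols relW relW_one (by decide +kernel) subW lets data rtriv rroot 44 46 rfl rfl
    (by decide +kernel) (by decide +kernel) (fun k hk => allBelow_spec defs_ok k hk) (covers1.trans (covers2.trans (covers3))) (by decide +kernel)
    (by
      intro i hi u hu
      have hi' : i < 16 := hi
      interval_cases i
      · exact allBelow_spec final1 u hu
      · exact allBelow_spec final2 u hu
      · exact allBelow_spec final3 u hu
      · exact allBelow_spec final4 u hu
      · exact allBelow_spec final5 u hu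
      · exact allBelow_spec final6 u hu
      · exact allBelow_spec final7 u hu
      · exact allBelow_spec final8 u hu
      · exact allBelow_spec final9 u hu
      · exact allBelow_spec final10 u hu
      · exact allBelow_spec final11 u hu
      · exact allBelow_spec final12 u hu
      · exact allBelow_spec final13 u hu
      · exact allBelow_spec final14 u hu
      · exact allBelow_spec final15 u hu
      · exact allBelow_spec final16 u hu
      ) [.a, .b, .c, .c1, .c2, .c3, .c4, .c5] tabU (by
      intro a ha
      fin_cases ha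
      · exact ⟨0, by decide, rfl, rfl⟩
      · exact ⟨2, by decide, rfl, rfl⟩
      · exact ⟨4, by decide, rfl, rfl⟩
      · exact ⟨6, by decide, rfl, rfl⟩
      · exact ⟨8, by decide, rfl, rfl⟩
      · exact ⟨10, by decide, rfl, rfl⟩
      · exact ⟨12, by decide, rfl, rfl⟩
      · exact ⟨14, by decide, rfl, rfl⟩
      )

end CfsgLib.FusionExamples.LySub.LyB
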